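import Groth.Agent.BiratCodimTwo.Basic
import Groth.Agent.SteinGen.NormalBase

/-!
Proper birational morphisms to normal bases: `O = f_* O`, isomorphism in codimension one.
-/

set_option autoImplicit false
set_option backward.isDefEq.respectTransparency false
set_option backward.isDefEq.respectTransparency.types false
set_option linter.style.haveILetI false

universe u

open CategoryTheory CategoryTheory.Limits AlgebraicGeometry TopologicalSpace

namespace Groth.Agent.StrictRat

variable {X Y : Scheme.{u}} [IsIntegral X] [IsIntegral Y] (f : X ⟶ Y) [IsProper f]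

theorem map_genericPoint' (U : Y.Opens) (hU : (U : Set Y).Nonempty) [IsIso (f ∣_ U)] :
    f (genericPoint X) = genericPoint Y := by
  have hη : genericPoint Y ∈ U := ((genericPoint_spec Y).mem_open_set_iff U.2).2 (by simpa using hU)
  obtain ⟨z, hz⟩ := (f ∣_ U).surjective ⟨genericPoint Y, hη⟩
  have hz' : f z.1 = genericPoint Y := (morphismRestrict_base_coe f U z).symm.trans (congrArg Subtype.val hz)
  exact ((((genericPoint_specializes z.1).map f.continuous).trans (specializes_of_eq hz')).antisymm
    (genericPoint_specializes _)).eq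

theorem isIso_app (hY : Pi1.IsNormalScheme Y) (V' : Y.Opens) (hV : (V' : Set Y).Nonempty) [IsIso (f ∣_ V')]
    (W : Y.Opens) : IsIso (f.app W) := by
  let ξ := genericPoint Y
  have hξV' : ξ ∈ V' := ((genericPoint_spec Y).mem_open_set_iff V'.2).2 (by simpa using hV)
  have hgen := map_genericPoint' f V' hV
  have hr : Set.range (Y.fromSpecResidueField ξ) ⊆ Set.range V'.ι := by
    rw [Scheme.range_fromSpecResidueField, Scheme.Opens.range_ι]
    exact Set.singleton_subset_iff.2 hξV'
  have hr' : Set.range (f.fiberι ξ) ⊆ Set.range (f ⁻¹ᵁ V').ι := by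
    rw [f.range_fiberι, Scheme.Opens.range_ι]
    intro x hx
    show f x ∈ V'
    rw [show f x = ξ from hx]
    exact hξV'
  let g := IsOpenImmersion.lift (f ⁻¹ᵁ V').ι (f.fiberι ξ) hr'
  let l := IsOpenImmersion.lift V'.ι (Y.fromSpecResidueField ξ) hr
  have hsq : IsPullback g (f.fiberToSpecResidueField ξ) (f ∣_ V') l := by
    refine IsPullback.of_right ?_ ?_ (isPullback_morphismRestrict f V').flip
    · rw [IsOpenImmersion.lift_fac, IsOpenImmersion.lift_fac]
      exact IsPullback.of_hasPullback _ _
    · rw [← cancel_mono V'.ι]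
      simp only [Category.assoc, morphismRestrict_ι, g, l, IsOpenImmersion.lift_fac, IsOpenImmersion.lift_fac_assoc]
      exact Limits.pullback.condition
  haveI : IsIso (f.fiberToSpecResidueField ξ) :=
    MorphismProperty.of_isPullback (P := MorphismProperty.isomorphisms Scheme.{u}) hsq ‹_›
  have h0 : Function.Bijective ((f.fiberToSpecResidueField ξ).appTop) :=
    (ConcreteCategory.isIso_iff_bijective _).1 inferInstance
  refine SteinGen.isIso_app_of_normal f hY (fun Z hZ x hx => ?_) h0 W
  rw [irreducibleComponents_eq_singleton, Set.mem_singleton_iff] at hZ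
  subst hZ
  rw [hx.eq (genericPoint_spec X)]
  exact hgen

/-- An open over which `f` is an isomorphism, containing all points of codimension at most one. -/
theorem exists_isIso_codim_two [IsNoetherian Y] (hY : Pi1.IsNormalScheme Y)
    (hbir : ∃ U : Y.Opens, (U : Set Y).Nonempty ∧ IsIso (f ∣_ U)) :
    ∃ W : Y.Opens, (W : Set Y).Nonempty ∧ IsIso (f ∣_ W) ∧
      ∀ y : Y, y ∉ W → (2 : WithBot ℕ∞) ≤ ringKrullDim (Y.presheaf.stalk y) := by
  obtain ⟨U, hU, hiso⟩ := hbir
  haveI := hiso
  have hO : ∀ W : Y.Opens, Function.Bijective (f.app W) := fun W =>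
    haveI := isIso_app f hY U hU W
    ConcreteCategory.bijective_of_isIso (f.app W)
  refine ⟨_, hU.mono fun y hy => Opens.mem_iSup.2 ⟨⟨U, hiso⟩, hy⟩, BiratCodimTwo.isIso_iSup f, fun y hy => ?_⟩
  by_contra h
  obtain ⟨V, hyV, hV⟩ := BiratCodimTwo.exists_nhd f ⟨U, hU, hiso⟩ hO y h
  exact hy (Opens.mem_iSup.2 ⟨⟨V, hV⟩, hyV⟩)

end Groth.Agent.StrictRat
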