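import Groth.Agent.StrictRat.Sections
import Groth.Agent.SpDimTrdeg.Basic
import Groth.Agent.CompInt.Cohom
import Groth.Agent.W7Proj.NegAffine
import Groth.Agent.S1689
import Groth.Agent.S1690

/-!
Strict transforms of reflexive modules with vanishing `H¹` are locally free on regular surfaces.
-/

set_option autoImplicit false
set_option backward.isDefEq.respectTransparency false
set_option backward.isDefEq.respectTransparency.types false
set_option linter.style.haveILetI false
set_option linter.unusedSectionVars false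

universe u

open CategoryTheory CategoryTheory.Limits AlgebraicGeometry TopologicalSpace
open Groth.Agent.QC Groth.Agent.WeakAssLib

namespace Groth.Agent.StrictRat

theorem topDim_le {X : Scheme.{u}} (hd : ∀ x : X, ringKrullDim (X.presheaf.stalk x) ≤ 2) :
    topologicalKrullDim X ≤ 2 := by
  letI := specializationOrder X
  rw [CartierDim.topDim_eq, Order.krullDim_eq_iSup_coheight]
  refine iSup_le fun x => ?_
  rw [← ringKrullDim_stalk_eq_coheight]
  exact hd x

/-- A point all of whose specializations are trivial, as soon as its local ring has maximal dimension. -/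
theorem eq_of_specializes {X : Scheme.{u}} (hd : ∀ x : X, ringKrullDim (X.presheaf.stalk x) ≤ 2) {x z : X}
    (hx : (2 : WithBot ℕ∞) ≤ ringKrullDim (X.presheaf.stalk x)) (h : x ⤳ z) : z = x := by
  letI := specializationOrder X
  by_contra hne
  have hlt : z < x := lt_of_le_not_ge (show z ≤ x from h) fun h' => hne ((Specializes.antisymm h' h).eq)
  have h2 := hd z
  rw [ringKrullDim_stalk_eq_coheight] at h2 hx
  have hx' : (2 : ℕ∞) ≤ Order.coheight x := WithBot.coe_le_coe.1 hx
  have h2' : Order.coheight z ≤ (2 : ℕ∞) := WithBot.coe_le_coe.1 h2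
  have h3 := Order.coheight_add_one_le hlt
  have h4 : (2 : ℕ∞) + 1 ≤ 2 := le_trans (add_le_add hx' le_rfl) (le_trans h3 h2')
  exact absurd h4 (by decide)

variable {X Y : Scheme.{u}} [IsIntegral X] [IsIntegral Y] [IsNoetherian Y] (f : X ⟶ Y) [IsProper f]

/-- `dim O_x ≤ dim O_{f x}` for proper birational `f`. -/
theorem dim_le (U : Y.Opens) (hU : (U : Set Y).Nonempty) [IsIso (f ∣_ U)] (x : X) :
    ringKrullDim (X.presheaf.stalk x) ≤ ringKrullDim (Y.presheaf.stalk (f x)) := by
  obtain ⟨r, hr⟩ := SpDimTrdeg.exists_resTrdeg_eq_nat f x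
  have hη : f (genericPoint X) ∈ U := by
    rw [map_genericPoint' f U hU]
    exact ((genericPoint_spec Y).mem_open_set_iff U.2).2 (by simpa using hU)
  have h := SpDimTrdeg.dim_stalk_le f x (rfl) (rfl) hr (E := 0) fun ξ hξ _ => by
    rw [show ξ = genericPoint X from (hξ _ (genericPoint_specializes ξ)).symm]
    exact (BiratCodimTwo.resTrdeg_genericPoint f U hη).le
  rw [map_zero] at h
  exact le_trans (le_add_of_nonneg_right (by simp)) (le_trans h (le_of_eq (by simp)))

/-- The strict transform of a reflexive module with vanishing `H¹` is reflexive. -/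
theorem isReflexive_strictTransform (hY : Pi1.IsNormalScheme Y)
    (hdY : ∀ y : Y, ringKrullDim (Y.presheaf.stalk y) ≤ 2)
    (hbir : ∃ U : Y.Opens, (U : Set Y).Nonempty ∧ IsIso (f ∣_ U))
    (hXn : Pi1.IsNormalScheme X)
    {L : Y.Modules} (hL : Coh.IsCoh L) (hLr : RefHull.IsReflexive L)
    {M : X.Modules} (hM : Coh.IsCoh M) (hMt : TorSh.IsTorsionFree M)
    (q : (Scheme.Modules.pullback f).obj L ⟶ M) [Epi q]
    (hq : Function.Injective (RefHull.stalkMapₗ q (genericPoint X)))
    (h1 : Subsingleton (Coh.HH X M 1)) : RefHull.IsReflexive M := by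
  haveI : IsLocallyNoetherian X := LocallyOfFiniteType.isLocallyNoetherian f
  haveI : CompactSpace X := QuasiCompact.compactSpace_of_compactSpace f
  haveI : IsNoetherian X := {}
  obtain ⟨U₀, hU₀, hiso₀⟩ := hbir
  haveI := hiso₀
  have hO : ∀ O : Y.Opens, IsIso (f.app O) := isIso_app f hY U₀ hU₀
  obtain ⟨W₀, hW₀, hW₀i, hW₀2⟩ := exists_isIso_codim_two f hY ⟨U₀, hU₀, hiso₀⟩
  obtain ⟨FY, hFY⟩ := RefStalk.exists_free_locus hL
  -- `L` is free in codimension one
  have hFY2 : ∀ y, y ∉ FY → (2 : WithBot ℕ∞) ≤ ringKrullDim (Y.presheaf.stalk y) := fun y hy => by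
    by_contra hc
    haveI : Module.IsReflexive (Y.presheaf.stalk y) (L.presheaf.stalk y) := (RefStalk.isReflexive_iff hL).1 hLr y
    exact hy ((hFY y).2 (RefStalk.free_stalk_codim_one hY hL y (RefStalk.isTorsionFree_of_isReflexive _) hc))
  let W : Y.Opens := W₀ ⊓ FY
  have hW2 : ∀ y, y ∉ W → (2 : WithBot ℕ∞) ≤ ringKrullDim (Y.presheaf.stalk y) := fun y hy => by
    by_cases h : y ∈ W₀
    · exact hFY2 y fun h' => hy ⟨h, h'⟩
    · exact hW₀2 y h
  have hηW : genericPoint Y ∈ W := by
    by_contra h
    have h2 := hW2 _ h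
    rw [ringKrullDim_eq_zero_of_isField (F := Y.presheaf.stalk (genericPoint Y)) (Field.toIsField (Y.functionField))] at h2
    exact absurd h2 (by decide)
  let V : X.Opens := f ⁻¹ᵁ W
  have hVne : (V : Set X).Nonempty := ⟨genericPoint X, by
    show f (genericPoint X) ∈ W
    rw [map_genericPoint' f U₀ hU₀]; exact hηW⟩
  -- global sections of `L` give all sections of `M` over `V`
  let η := (Scheme.Modules.pullbackPushforwardAdjunction f).unit.app L
  have hu : Function.Bijective (η.app W) := bijective_app_of_local η fun y hy => by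
    obtain ⟨U, n, e, hyU, he⟩ := exists_isFrame_of_free hL ((hFY y).1 hy.2)
    refine ⟨U, hyU, fun O hOU => ?_⟩
    haveI := hO O
    have h1 : Function.Bijective fun c : Fin n → Γ(Y, O) => η.app O (∑ i, c i • res L hOU (e i)) := by
      rw [funext (AVOmega.unit_comb f e hOU)]
      exact ((he.pullback f).equiv (f.preimage_mono hOU)).bijective.comp
        (Equiv.piCongrRight fun _ => Equiv.ofBijective _ (ConcreteCategory.bijective_of_isIso (f.app O))).bijective
    exact (Function.Bijective.of_comp_iff _ (he.equiv hOU).bijective).1 h1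
  have hqV : Function.Bijective (q.app V) := RefStalk.bijective_app_of_stalk q fun x hx => by
    obtain ⟨U, n, e, hyU, he⟩ := exists_isFrame_of_free hL ((hFY (f x)).1 hx.2)
    exact bijective_stalkMap_q f hM hMt q hq he hyU
  have hres : Function.Bijective (res L (le_top : W ≤ ⊤)) :=
    RefStalk.bijective_res_of_isReflexive hY hL ((RefStalk.isReflexive_iff hL).1 hLr) le_top
      fun y _ hy => hW2 y hy
  have hsurjV : Function.Surjective (res M (le_top : V ≤ ⊤)) := fun t => by
    obtain ⟨p, hp⟩ := hqV.2 t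
    obtain ⟨l, hl⟩ := hu.2 p
    obtain ⟨L0, hL0⟩ := hres.2 l
    refine ⟨q.app ⊤ (η.app ⊤ L0), ?_⟩
    rw [app_res q]
    refine Eq.trans ?_ hp
    refine congrArg (q.app V) ?_
    exact (app_res η (le_top : W ≤ ⊤) L0).trans ((congrArg (η.app W) hL0).trans hl)
  -- the free locus of `M`
  obtain ⟨U, hU⟩ := RefStalk.exists_free_locus hM
  have hU2 : ∀ x, x ∉ U → (2 : WithBot ℕ∞) ≤ ringKrullDim (X.presheaf.stalk x) := fun x hx => by
    by_contra hc
    exact hx ((hU x).2 (RefStalk.free_stalk_codim_one hXn hM x (hMt x) hc))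
  have hVU : V ≤ U := fun x hx => by
    refine (hU x).2 ?_
    obtain ⟨O, n, e, hyO, he⟩ := exists_isFrame_of_free hL ((hFY (f x)).1 hx.2)
    have he' := he.pullback f
    have hl : Function.Bijective (Fintype.linearCombination (X.presheaf.stalk x)
        fun i => mgerm ((Scheme.Modules.pullback f).obj L) (show x ∈ f ⁻¹ᵁ O from hyO)
          (((Scheme.Modules.pullbackPushforwardAdjunction f).unit.app L).app O (e i))) := by
      have h := he' x hyO
      exact h
    haveI : Module.Free (X.presheaf.stalk x) (((Scheme.Modules.pullback f).obj L).presheaf.stalk x) :=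
      Module.Free.of_equiv (LinearEquiv.ofBijective _ hl)
    have hb := bijective_stalkMap_q f hM hMt q hq he hyO
    exact Module.Free.of_equiv (LinearEquiv.ofBijective
      (show ((Scheme.Modules.pullback f).obj L).presheaf.stalk x →ₗ[X.presheaf.stalk x] M.presheaf.stalk x from
        RefHull.stalkMapₗ q x) hb)
  have hdX : ∀ x : X, ringKrullDim (X.presheaf.stalk x) ≤ 2 := fun x => (dim_le f U₀ hU₀ x).trans (hdY _)
  have hclosed : ∀ x, x ∉ U → IsClosed ({x} : Set X) := fun x hx =>
    isClosed_of_closure_subset fun z hz =>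
      eq_of_specializes hdX (hU2 x hx) (specializes_iff_mem_closure.2 hz)
  have hBfin : ((U : Set X)ᶜ).Finite := by
    let B : Set X := (U : Set X)ᶜ
    have hB : IsClosed B := U.2.isClosed_compl
    obtain ⟨S, hSf, hSc, hSi, hsup⟩ := NoetherianSpace.exists_finite_set_isClosed_irreducible hB
    rw [show (U : Set X)ᶜ = ⋃₀ S from hsup]
    refine hSf.sUnion fun Z hZ => ?_
    obtain ⟨η, hη⟩ := QuasiSober.sober (hSi Z hZ) (hSc Z hZ)
    have hηB : η ∈ B := by
      rw [show B = ⋃₀ S from hsup]
      exact Set.subset_sUnion_of_mem hZ hη.mem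
    refine (Set.finite_singleton η).subset fun z hz => ?_
    have hc := (hclosed η hηB).closure_eq
    rw [← hη.def, hc] at hz
    exact hz
  -- the unit is an isomorphism
  let u := (Scheme.Modules.restrictAdjunction U.ι).unit.app M
  have happ : ∀ O : X.Opens, ∀ s, u.app O s = res M (U.ι.image_preimage_le O) s := fun O s => by
    rw [Scheme.Modules.restrictAdjunction_unit_app_app]
    rfl
  haveI : Mono u := (QC.mono_iff_app_injective _).2 fun O => (injective_iff_map_eq_zero _).2 fun s hs => by
    rw [happ] at hs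
    by_cases hne : (O : Set X).Nonempty
    · have hηO : genericPoint X ∈ O := ((genericPoint_spec X).mem_open_set_iff O.2).2 (by simpa using hne)
      refine injective_res hM hMt (U.ι.image_preimage_le O) ⟨genericPoint X, ?_⟩ (hs.trans (map_zero _).symm)
      exact ZCl.image_le U O ⟨hVU (by
        show f (genericPoint X) ∈ W
        rw [map_genericPoint' f U₀ hU₀]; exact hηW), hηO⟩
    · rw [Set.not_nonempty_iff_eq_empty] at hne
      haveI : O = ⊥ := Opens.ext hne
      subst this
      exact QC.section_eq_of_locally fun y hy => absurd hy (by simp)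
  have hsmall : ∀ O : X.Opens, O ≤ U → Function.Surjective (u.app O) := fun O hO t => by
    obtain ⟨s, hs⟩ := (ZCl.rs_bijective M (U.ι.image_preimage_le O)
      (le_trans (le_inf hO le_rfl) (ZCl.image_le U O))).2 t
    exact ⟨s, (happ O s).trans hs⟩
  have htopsurj : Function.Surjective (u.app ⊤) := fun t => by
    let O' : X.Opens := U.ι ''ᵁ U.ι ⁻¹ᵁ ⊤
    have hVO : V ≤ O' := fun x hx => ZCl.image_le U ⊤ ⟨hVU hx, trivial⟩
    obtain ⟨s, hs⟩ := hsurjV (res M hVO t)
    refine ⟨s, (happ ⊤ s).trans (injective_res hM hMt hVO hVne ?_)⟩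
    rw [res_res]; exact hs
  let S : ShortComplex X.Modules := ShortComplex.mk u (cokernel.π u) (cokernel.condition u)
  have hS : S.ShortExact :=
    { exact := ShortComplex.exact_of_g_is_cokernel S (cokernelIsCokernel u)
      mono_f := ‹Mono u›
      epi_g := inferInstanceAs (Epi (cokernel.π u)) }
  have hπtop : Function.Surjective ((cokernel.π u).app ⊤) := CompInt.surjective_app_top hS h1
  have hkill : ∀ O : X.Opens, ∀ t, u.app O t = u.app O t → (cokernel.π u).app O (u.app O t) = 0 := fun O t _ => by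
    change (u ≫ cokernel.π u).app O t = 0
    rw [cokernel.condition]; rfl
  have hQtop : ∀ t : Γ(cokernel u, ⊤), t = 0 := fun t => by
    obtain ⟨a, rfl⟩ := hπtop t
    obtain ⟨b, rfl⟩ := htopsurj a
    exact hkill _ _ rfl
  have hQU : ∀ O : X.Opens, O ≤ U → ∀ t : Γ(cokernel u, O), t = 0 := fun O hO t =>
    QC.section_eq_of_locally fun y hy => by
      obtain ⟨O', hO', hyO', a, ha⟩ := TMul.exists_app_eq_of_epi (cokernel.π u) t hy
      obtain ⟨b, rfl⟩ := hsmall O' (hO'.trans hO) a
      refine ⟨O', hO', hyO', ?_⟩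
      rw [map_zero, ← ha]
      exact hkill _ _ rfl
  have hQ : ∀ O : X.Opens, ∀ t : Γ(cokernel u, O), t = 0 := fun O t =>
    QC.section_eq_of_locally fun x hx => by
      by_cases hxU : x ∈ U
      · exact ⟨O ⊓ U, inf_le_left, ⟨hx, hxU⟩, (hQU _ inf_le_right _).trans (map_zero _).symm⟩
      let N : X.Opens := O ⊓ ⟨((U : Set X)ᶜ \ {x})ᶜ, (by
        rw [← Set.biUnion_of_singleton ((U : Set X)ᶜ \ {x})]
        exact (hBfin.subset Set.diff_subset).isClosed_biUnion fun z hz => hclosed z hz.1 :
          IsClosed (((U : Set X)ᶜ) \ {x})).isOpen_compl⟩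
      have hxN : x ∈ N := ⟨hx, fun h => h.2 rfl⟩
      let P : X.Opens := ⟨{x}ᶜ, (hclosed x hxU).isOpen_compl⟩
      have hNP : N ⊓ P ≤ U := fun z hz => by
        by_contra hzU
        exact hz.1.2 ⟨hzU, hz.2⟩
      refine ⟨N, inf_le_left, hxN, ?_⟩
      rw [map_zero]
      let Qs : TopCat.Sheaf Ab X.toTopCat := Coh.toAb (cokernel u)
      let Ui : ULift.{u} Bool → X.Opens := fun b => if b.down then N else P
      let si : ∀ b, Γ(cokernel u, Ui b) := fun ⟨b⟩ => match b with
        | true => res (cokernel u) inf_le_left t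
        | false => 0
      have hcover : ∀ y : X, y ∈ (⊤ : X.Opens) → y ∈ ⨆ b, Ui b := fun y _ => by
        by_cases hy : y = x
        · exact Opens.mem_iSup.2 ⟨⟨true⟩, hy ▸ hxN⟩
        · exact Opens.mem_iSup.2 ⟨⟨false⟩, hy⟩
      obtain ⟨g, hg, -⟩ := Qs.existsUnique_gluing' Ui ⊤ (fun _ => homOfLE le_top) hcover si (by
        rintro ⟨i⟩ ⟨j⟩
        cases i <;> cases j
        · rfl
        · exact (map_zero _).trans (hQU _ (le_trans (le_inf inf_le_right inf_le_left) hNP) _).symm
        · exact (hQU _ hNP _).trans (map_zero _).symm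
        · rfl)
      have := hg ⟨true⟩
      rw [hQtop g, map_zero] at this
      exact this.symm
  have hz : IsZero (cokernel u) := by
    rw [IsZero.iff_id_eq_zero]
    ext O t
    exact hQ O t
  haveI : Epi u := Abelian.epi_of_cokernel_π_eq_zero _ (hz.eq_of_tgt _ _)
  haveI : IsIso u := isIso_of_mono_of_epi u
  exact (RefStalk.isReflexive_iff hM).2 <| (Groth.Agent.S1690.result X hXn M hM).2
    ⟨U, hU2, (RefStalk.isFinLocFree_restrict_iff hM U).2 fun x hx => (hU x).1 hx, inferInstance⟩

theorem isFinLocFree_strictTransform (hY : Pi1.IsNormalScheme Y)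
    (hdY : ∀ y : Y, ringKrullDim (Y.presheaf.stalk y) ≤ 2)
    (hbir : ∃ U : Y.Opens, (U : Set Y).Nonempty ∧ IsIso (f ∣_ U))
    (hreg : ∀ x : X, IsRegularLocalRing (X.presheaf.stalk x)) (hXn : Pi1.IsNormalScheme X)
    {L : Y.Modules} (hL : Coh.IsCoh L) (hLr : RefHull.IsReflexive L)
    {M : X.Modules} (hM : Coh.IsCoh M) (hMt : TorSh.IsTorsionFree M)
    (q : (Scheme.Modules.pullback f).obj L ⟶ M) [Epi q]
    (hq : Function.Injective (RefHull.stalkMapₗ q (genericPoint X)))
    (h1 : Subsingleton (Coh.HH X M 1)) : FlatMod.IsFinLocFree M := by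
  haveI : IsLocallyNoetherian X := LocallyOfFiniteType.isLocallyNoetherian f
  haveI : CompactSpace X := QuasiCompact.compactSpace_of_compactSpace f
  haveI : IsNoetherian X := {}
  obtain ⟨U₀, hU₀, hiso₀⟩ := id hbir
  haveI := hiso₀
  have hdX : ∀ x : X, ringKrullDim (X.presheaf.stalk x) ≤ 2 := fun x => (dim_le f U₀ hU₀ x).trans (hdY _)
  exact (Groth.Agent.S1689.result X hreg (topDim_le hdX) M hM).1
    ((RefStalk.isReflexive_iff hM).1 (isReflexive_strictTransform f hY hdY hbir hXn hL hLr hM hMt q hq h1))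

end Groth.Agent.StrictRat
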