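import Groth.Agent.StrictRat.Birat
import Groth.Agent.AVOmega.Push
import Groth.Agent.RefStalk.Codim
import Groth.Agent.RefStalk.Restrict
import Groth.Agent.RefStalk.Refl
import Groth.Agent.RatFun.Basic
import Groth.Agent.PBundle.FrameTools
import Groth.Agent.WeakAssLib.Basic
import Groth.Agent.TMul.GlobGen

/-!
Strict transforms of reflexive modules: sections.
-/

set_option autoImplicit false
set_option backward.isDefEq.respectTransparency false
set_option backward.isDefEq.respectTransparency.types false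
set_option linter.style.haveILetI false
set_option linter.unusedSectionVars false

universe u

open CategoryTheory CategoryTheory.Limits AlgebraicGeometry TopologicalSpace
open Groth.Agent.QC Groth.Agent.WeakAssLib

namespace Groth.Agent.StrictRat

section Local

variable {X : Scheme.{u}} {F G : X.Modules} (φ : F ⟶ G)

/-- Bijectivity on all small opens gives bijectivity on stalks. -/
theorem bijective_stalkMap_of_local {x : X} {U : X.Opens} (hx : x ∈ U)
    (h : ∀ W : X.Opens, W ≤ U → Function.Bijective (φ.app W)) :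
    Function.Bijective (RefHull.stalkMapₗ φ x) := by
  refine ⟨(injective_iff_map_eq_zero _).2 fun v hv => ?_, fun w => ?_⟩
  · obtain ⟨O, hxO, s, rfl⟩ := TopCat.Presheaf.exists_germ_eq F.presheaf (x := x) v
    rw [RefHull.stalkMapₗ_germ] at hv
    obtain ⟨N, hxN, i₁, i₂, he⟩ := TopCat.Presheaf.germ_eq G.presheaf x hxO hxO (φ.app O s) 0
      (hv.trans (map_zero _).symm)
    have hle : N ⊓ U ≤ O := inf_le_left.trans i₁.le
    have h0 : φ.app (N ⊓ U) (res F hle s) = 0 := by
      rw [← app_res φ]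
      have h2 : res G i₁.le (φ.app O s) = 0 := he.trans (map_zero _)
      rw [show res G hle (φ.app O s) = res G (inf_le_left : N ⊓ U ≤ N) (res G i₁.le (φ.app O s)) by rw [res_res],
        h2, map_zero]
    have h1 : res F hle s = 0 := (h _ inf_le_right).1 (h0.trans (map_zero _).symm)
    change mgerm F hxO s = 0
    rw [← mgerm_res F hle (show x ∈ N ⊓ U from ⟨hxN, hx⟩) s, h1, map_zero]
  · obtain ⟨O, hxO, t, rfl⟩ := TopCat.Presheaf.exists_germ_eq G.presheaf (x := x) w
    obtain ⟨s, hs⟩ := (h (O ⊓ U) inf_le_right).2 (res G inf_le_left t)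
    refine ⟨F.presheaf.germ (O ⊓ U) x ⟨hxO, hx⟩ s, ?_⟩
    rw [RefHull.stalkMapₗ_germ, hs]
    exact mgerm_res G _ _ t

theorem bijective_app_of_local {V : X.Opens}
    (h : ∀ x ∈ V, ∃ U : X.Opens, x ∈ U ∧ ∀ W : X.Opens, W ≤ U → Function.Bijective (φ.app W)) :
    Function.Bijective (φ.app V) :=
  RefStalk.bijective_app_of_stalk φ fun x hx => by
    obtain ⟨U, hxU, hU⟩ := h x hx
    exact bijective_stalkMap_of_local φ hxU hU

theorem exists_isFrame_of_free [IsLocallyNoetherian X] (hF : Coh.IsCoh F) {x : X}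
    (h : Module.Free (X.presheaf.stalk x) (F.presheaf.stalk x)) :
    ∃ (U : X.Opens) (n : ℕ) (e : Fin n → Γ(F, U)), x ∈ U ∧ TMul.IsFrame e := by
  classical
  obtain ⟨A, hA, hxA, hfree⟩ := RefStalk.exists_free_affine hF h
  haveI := hfree
  haveI : Module.Finite Γ(X, A) Γ(F, A) := QC.finite_sections hA (hM := hF.1) hF.2
  haveI : Nonempty A := ⟨⟨x, hxA⟩⟩
  haveI : Nontrivial Γ(X, A) := inferInstance
  let b := Module.finBasis Γ(X, A) Γ(F, A)
  refine ⟨A, _, b, hxA, PBundle.isFrame_of_bijective hF.1 hA ?_⟩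
  have : (fun a : _ → Γ(X, A) => ∑ i, a i • b i) = b.equivFun.symm := by
    funext a
    rw [Module.Basis.equivFun_symm_apply]
  rw [this]
  exact b.equivFun.symm.bijective

end Local

section Res

variable {X : Scheme.{u}} [IsIntegral X] {M : X.Modules}

theorem injective_res (hM : Coh.IsCoh M) (hMt : TorSh.IsTorsionFree M) {O O' : X.Opens} (h : O' ≤ O) (hne : (O' : Set X).Nonempty) :
    Function.Injective (res M h) := (injective_iff_map_eq_zero _).2 fun s hs => by
  haveI : Coh.IsQCoh M := hM.1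
  have hη : genericPoint X ∈ O' := ((genericPoint_spec X).mem_open_set_iff O'.2).2 (by simpa using hne)
  refine RatFun.germ_generic_injective M hMt (h hη) ?_
  rw [← mgerm_res M h hη s, hs, map_zero]

end Res

variable {X Y : Scheme.{u}} [IsIntegral X] [IsIntegral Y] [IsNoetherian Y] (f : X ⟶ Y) [IsProper f]
  (hY : Pi1.IsNormalScheme Y) (W : Y.Opens) (hW : (W : Set Y).Nonempty) [IsIso (f ∣_ W)]
  (hW2 : ∀ y : Y, y ∉ W → (2 : WithBot ℕ∞) ≤ ringKrullDim (Y.presheaf.stalk y))
  {L : Y.Modules} (hL : Coh.IsCoh L) (hLr : RefHull.IsReflexive L)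
  {M : X.Modules} (hM : Coh.IsCoh M) (hMt : TorSh.IsTorsionFree M)
  (q : (Scheme.Modules.pullback f).obj L ⟶ M) [Epi q]
  (hq : Function.Injective (RefHull.stalkMapₗ q (genericPoint X)))

include hM hMt hq

/-- Where `L` has a frame, the stalks of the strict transform are those of the pull-back. -/
theorem bijective_stalkMap_q {U : Y.Opens} {n : ℕ} {e : Fin n → Γ(L, U)} (he : TMul.IsFrame e) {x : X}
    (hx : f x ∈ U) : Function.Bijective (RefHull.stalkMapₗ q x) := by
  haveI := hM.1
  refine ⟨(injective_iff_map_eq_zero _).2 fun v hv => ?_, ?_⟩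
  · obtain ⟨O, hxO, s, rfl⟩ :=
      TopCat.Presheaf.exists_germ_eq ((Scheme.Modules.pullback f).obj L).presheaf (x := x) v
    rw [RefHull.stalkMapₗ_germ] at hv
    obtain ⟨N, hxN, i₁, i₂, h0⟩ := TopCat.Presheaf.germ_eq M.presheaf x hxO hxO (q.app O s) 0
      (hv.trans (map_zero _).symm)
    let N' : X.Opens := N ⊓ f ⁻¹ᵁ U
    have hle : N' ≤ O := inf_le_left.trans i₁.le
    have hη : genericPoint X ∈ N' :=
      ((genericPoint_spec X).mem_open_set_iff N'.2).2 ⟨x, trivial, hxN, hx⟩
    let s' := res ((Scheme.Modules.pullback f).obj L) hle s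
    have hq0 : q.app N' s' = 0 := by
      rw [← app_res q]
      have h2 : res M i₁.le (q.app O s) = 0 := h0.trans (map_zero _)
      rw [show res M hle (q.app O s) = res M (inf_le_left : N' ≤ N) (res M i₁.le (q.app O s)) by rw [res_res],
        h2, map_zero]
    have hg : mgerm ((Scheme.Modules.pullback f).obj L) hη s' = 0 := hq (by
      rw [map_zero]
      refine (RefHull.stalkMapₗ_germ _ _ _ _).trans ?_
      rw [hq0, map_zero])
    obtain ⟨N₁, hη₁, j₁, j₂, h1⟩ := TopCat.Presheaf.germ_eq ((Scheme.Modules.pullback f).obj L).presheaf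
      (genericPoint X) hη hη s' 0 (hg.trans (map_zero _).symm)
    let he' := he.pullback f
    obtain ⟨c, hc⟩ := he'.comb_surjective (inf_le_right : N' ≤ f ⁻¹ᵁ U) s'
    have hc0 : c = 0 := by
      funext i
      haveI : Nonempty N' := ⟨⟨_, hη⟩⟩
      haveI : Nonempty N₁ := ⟨⟨_, hη₁⟩⟩
      refine map_injective_of_isIntegral X (homOfLE j₁.le) ?_
      rw [Pi.zero_apply, map_zero]
      have h3 : ∑ i, resO X j₁.le (c i) • res ((Scheme.Modules.pullback f).obj L)
          (j₁.le.trans (inf_le_right : N' ≤ f ⁻¹ᵁ U))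
          (((Scheme.Modules.pullbackPushforwardAdjunction f).unit.app L).app U (e i)) = 0 := by
        have h4 : res ((Scheme.Modules.pullback f).obj L) j₁.le s' = 0 := h1.trans (map_zero _)
        rw [← hc, map_sum] at h4
        refine (Finset.sum_congr rfl fun i _ => ?_).trans h4
        rw [res_smul, res_res]
      refine congrFun (he'.comb_injective (j₁.le.trans (inf_le_right : N' ≤ f ⁻¹ᵁ U))
        (a₁ := fun i => resO X j₁.le (c i)) (a₂ := 0) (h3.trans ?_)) i
      simp only [Pi.zero_apply, zero_smul, Finset.sum_const_zero]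
    have hs0 : s' = 0 := by
      rw [← hc, hc0]; simp
    change mgerm _ hxO s = 0
    rw [← mgerm_res _ hle (show x ∈ N' from ⟨hxN, hx⟩) s]
    exact (congrArg (mgerm _ _) hs0).trans (map_zero _)
  · intro w
    obtain ⟨O, hxO, t, rfl⟩ := TopCat.Presheaf.exists_germ_eq M.presheaf (x := x) w
    obtain ⟨V, hV, hxV, s, hs⟩ := TMul.exists_app_eq_of_epi q t hxO
    refine ⟨((Scheme.Modules.pullback f).obj L).presheaf.germ V x hxV s, ?_⟩
    rw [RefHull.stalkMapₗ_germ, hs]
    exact mgerm_res M _ _ t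

end Groth.Agent.StrictRat
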